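import Groth.Agent.H18Subtr.Basic
import Groth.Agent.H06QFlat.Topo
import Groth.Agent.H17.Reduced

/-!
# Morphisms to the spectrum of a valuation ring
-/

set_option autoImplicit false

universe w u

open CategoryTheory Limits AlgebraicGeometry IsLocalRing HTop TopologicalSpace

namespace Groth.Agent.H18Subtr

set_option backward.isDefEq.respectTransparency false

/-- An integral scheme dominating the spectrum of a Bezout domain is flat over it. -/
theorem flat_of_isIntegral_of_map_genericPoint {R : Type u} [CommRing R] [IsDomain R] [IsBezout R] {Z : Scheme.{u}}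
    [IsIntegral Z] (g : Z ⟶ Spec (CommRingCat.of R))
    (hg : g (genericPoint Z) = (⊥ : PrimeSpectrum R)) : Flat g := by
  let S := Spec (CommRingCat.of R)
  let e := (Scheme.ΓSpecIso (CommRingCat.of R)).commRingCatIsoToRingEquiv
  refine HasRingHomProperty.of_iSup_eq_top (P := @Flat) (fun U : Z.affineOpens => U) (iSup_affineOpens_eq_top Z)
    fun U => ?_
  let φ : R →+* Γ(Z, U) := (g.appLE ⊤ U (by simp)).hom.comp e.symm.toRingHom
  have hφ : φ.Flat := by
    rw [RingHom.Flat]
    letI := φ.toAlgebra
    rw [Module.Flat.flat_iff_torsion_eq_bot_of_isBezout, eq_bot_iff]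
    rintro b ⟨⟨c, hc⟩, hcb⟩
    have hcb' : φ c * b = 0 := hcb
    rw [Submodule.mem_bot]
    rcases isEmpty_or_nonempty (U : Z.Opens) with hU | hU
    · exact Z.IsSheaf.section_ext fun x hx => (hU.false ⟨x, hx⟩).elim
    · haveI := hU
      rcases mul_eq_zero.1 hcb' with h0 | h0
      · exfalso
        have hgen : genericPoint Z ∈ (U : Z.Opens) := by
          obtain ⟨x⟩ := hU
          exact (genericPoint_specializes x.1).mem_open (U : Z.Opens).2 x.2
        have hmem : genericPoint Z ∈ Z.basicOpen (φ c) := by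
          show genericPoint Z ∈ Z.basicOpen ((g.appLE ⊤ U (by simp)).hom (e.symm c))
          rw [Scheme.basicOpen_appLE]
          refine ⟨hgen, ?_⟩
          show g (genericPoint Z) ∈ S.basicOpen (e.symm c)
          rw [hg, basicOpen_eq_of_affine']
          show (Scheme.ΓSpecIso (CommRingCat.of R)).hom (e.symm c) ∉ (⊥ : Ideal R)
          rw [show (Scheme.ΓSpecIso (CommRingCat.of R)).hom (e.symm c) = c from e.apply_symm_apply c, Ideal.mem_bot]
          exact nonZeroDivisors.ne_zero hc
        rw [h0, Scheme.basicOpen_zero] at hmem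
        exact hmem
      · exact h0
  have hcomp : (g.appLE ⊤ U (by simp)).hom = φ.comp e.toRingHom :=
    RingHom.ext fun z => by simp [φ]
  rw [hcomp]
  exact RingHom.Flat.respectsIso.2 _ e hφ

variable {V : Type u} [CommRing V] [IsDomain V] [ValuationRing V]

theorem bot_specializes (p : Spec (CommRingCat.of V)) : ((⊥ : PrimeSpectrum V) : Spec (CommRingCat.of V)) ⤳ p :=
  (PrimeSpectrum.le_iff_specializes (⊥ : PrimeSpectrum V) p).1 bot_le

/-- A specialisation over the extreme points gives a valuation ring mapping onto `Spec V`. -/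
theorem exists_valuation_surjective {X : Scheme.{u}} (f : X ⟶ Spec (CommRingCat.of V)) {x x' : X} (h : x' ⤳ x)
    (hx : f x = closedPoint V) (hx' : f x' = (⊥ : PrimeSpectrum V)) :
    ∃ (W : Type u) (_ : CommRing W) (_ : IsDomain W) (_ : ValuationRing W)
      (g : Spec (CommRingCat.of W) ⟶ X), Surjective (g ≫ f) := by
  obtain ⟨W, i1, i2, k, hk, hk'⟩ := H18HTop.exists_valuation_of_specializes h
  haveI := i1; haveI := i2
  let φ : CommRingCat.of V ⟶ W := Spec.preimage (k ≫ f)
  have hφ : Spec.map φ = k ≫ f := Spec.map_preimage _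
  have h0 : Spec.map φ (⊥ : PrimeSpectrum W) = (⊥ : PrimeSpectrum V) := by
    rw [hφ, Scheme.Hom.comp_apply, hk, hx']
  have h1 : Spec.map φ (closedPoint W) = closedPoint V := by
    rw [hφ, Scheme.Hom.comp_apply, hk', hx]
  refine ⟨W, inferInstance, i1, i2, k, ?_⟩
  have := surjective_spec_of_isExtVal φ ⟨?_, ?_⟩
  · rwa [hφ] at this
  · rw [injective_iff_map_eq_zero]
    intro z hz
    have : z ∈ Ideal.comap φ.hom ⊥ := by rw [Ideal.mem_comap, Ideal.mem_bot]; exact hz
    rw [show Ideal.comap φ.hom ⊥ = (⊥ : Ideal V) from congrArg PrimeSpectrum.asIdeal h0] at this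
    exact Ideal.mem_bot.1 this
  · refine ((IsLocalRing.local_hom_TFAE φ.hom).out 0 4).2 ?_
    exact congrArg PrimeSpectrum.asIdeal h1

/-- A specialisation over the extreme points gives a flat surjective closed subscheme. -/
theorem exists_closed_flat_surjective {X : Scheme.{u}} (f : X ⟶ Spec (CommRingCat.of V)) {x x' : X} (h : x' ⤳ x)
    (hx : f x = closedPoint V) (hx' : f x' = (⊥ : PrimeSpectrum V)) :
    ∃ (Z : Scheme.{u}) (i : Z ⟶ X), IsClosedImmersion i ∧ Flat (i ≫ f) ∧ Surjective (i ≫ f) := by
  let F : Closeds X := ⟨closure {x'}, isClosed_closure⟩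
  let I := Scheme.IdealSheafData.vanishingIdeal F
  have hr : Set.range I.subschemeι = closure {x'} := by
    rw [Scheme.IdealSheafData.range_subschemeι, Scheme.IdealSheafData.coe_support_vanishingIdeal]
    rfl
  obtain ⟨a, ha⟩ : x' ∈ Set.range I.subschemeι := hr ▸ subset_closure rfl
  have hla : ∀ w, a ⤳ w := fun w => by
    refine I.subschemeι.isEmbedding.isInducing.specializes_iff.1 ?_
    rw [ha]
    exact specializes_iff_mem_closure.2 (hr ▸ Set.mem_range_self w)
  haveI : IrreducibleSpace I.subscheme := by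
    have h1 : closure ({a} : Set I.subscheme) = Set.univ := Set.eq_univ_of_forall fun w => (hla w).mem_closure
    exact (irreducibleSpace_def _).2 (by rw [Set.top_eq_univ, ← h1]; exact isIrreducible_singleton.closure)
  haveI : IsReduced I.subscheme := H17.isReduced_vanishingIdeal_subscheme _
  haveI : IsIntegral I.subscheme := isIntegral_of_irreducibleSpace_of_isReduced _
  obtain ⟨b, hb⟩ : x ∈ Set.range I.subschemeι := hr ▸ h.mem_closure
  have hgen : (I.subschemeι ≫ f) (genericPoint I.subscheme) = (⊥ : PrimeSpectrum V) := by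
    have hga : genericPoint I.subscheme = a := Inseparable.eq ((genericPoint_specializes a).antisymm (hla _))
    rw [hga, Scheme.Hom.comp_apply, ha, hx']
  haveI hfl := flat_of_isIntegral_of_map_genericPoint (I.subschemeι ≫ f) hgen
  refine ⟨I.subscheme, I.subschemeι, inferInstance, hfl, ⟨fun p => ?_⟩⟩
  have hsp : p ⤳ (I.subschemeι ≫ f) b := by
    rw [Scheme.Hom.comp_apply, hb, hx]
    exact specializes_closedPoint _
  obtain ⟨c, -, hc⟩ := Flat.generalizingMap (I.subschemeι ≫ f) hsp
  exact ⟨c, hc⟩

end Groth.Agent.H18Subtr
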