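import Groth.Prelude.Def_W4c2submetdescSubtr
import Groth.Prelude.Def_ProCons
import Groth.Agent.H18HTop.VCoverCrit
import Groth.Agent.H17.QcImage
import Mathlib.AlgebraicGeometry.Fiber
import Mathlib.RingTheory.Flat.TorsionFree
import Mathlib.RingTheory.Flat.FaithfullyFlat.Algebra
import Mathlib.Topology.Constructible

/-!
# S-subtrusive morphisms and the valuative lifting property
-/

set_option autoImplicit false

universe w u

open CategoryTheory Limits AlgebraicGeometry IsLocalRing HTop

namespace Groth.Agent.H18Subtr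

set_option backward.isDefEq.respectTransparency false

variable {X Y : Scheme.{u}}

/-- Base changes of a universally S-subtrusive morphism, in the standard pullback. -/
theorem isSSubtrusive_pullback_snd {f : X ⟶ Y} (hf : Subtr.UnivSSubtrusive f) {Z : Scheme.{u}} (g : Z ⟶ Y) :
    Subtr.IsSSubtrusive (pullback.snd f g) :=
  hf _ _ _ (IsPullback.of_hasPullback f g).flip

theorem univSSubtrusive_iff_hasValLift (f : X ⟶ Y) :
    Subtr.UnivSSubtrusive f ↔ HasValLift (PreZeroHypercover.singleton.{w} f) := by
  rw [H18HTop.hasValLift_singleton_iff]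
  constructor
  · intro hf Z g z' z hz
    obtain ⟨x, x', hx, hfx, hfx'⟩ := hf _ _ _ (IsPullback.of_hasPullback g f) hz
    exact ⟨x', x, hx, hfx', hfx⟩
  · intro h X' Y' i₁ i₂ f' hP y y' hy
    obtain ⟨w', w, hw, hw', hw0⟩ := h Y' i₂ y' y hy
    let e := hP.isoPullback
    have he : e.inv ≫ f' = pullback.fst i₂ f := hP.isoPullback_inv_fst
    refine ⟨e.inv w, e.inv w', hw.map e.inv.continuous, ?_, ?_⟩
    · rw [← Scheme.Hom.comp_apply, he, hw0]
    · rw [← Scheme.Hom.comp_apply, he, hw']

/-- An injective local homomorphism out of a valuation ring is surjective on spectra. -/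
theorem surjective_spec_of_isExtVal {V W : CommRingCat.{u}} [IsDomain V] [ValuationRing V] [IsDomain W]
    [ValuationRing W] (φ : V ⟶ W) (hφ : IsExtVal V W φ) : Surjective (Spec.map φ) := by
  algebraize [φ.hom]
  haveI : Module.IsTorsionFree V W := by
    refine ⟨fun r hr x y hxy => ?_⟩
    have hr0 : (algebraMap V W r) ≠ 0 := fun h0 => by
      have := hφ.1 (h0.trans (map_zero φ.hom).symm)
      exact hr.ne_zero this
    simp only [Algebra.smul_def] at hxy
    exact mul_left_cancel₀ hr0 hxy
  haveI : Module.Flat V W := Module.Flat.flat_iff_torsion_eq_bot_of_isBezout.2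
    (by rw [← Submodule.isTorsionFree_iff_torsion_eq_bot]; infer_instance)
  haveI : IsLocalHom (algebraMap V W) := hφ.2
  haveI : Module.FaithfullyFlat V W := Module.FaithfullyFlat.of_flat_of_isLocalHom
  exact ⟨PrimeSpectrum.comap_surjective_of_faithfullyFlat⟩

theorem univSSubtrusive_iff_exists_lift (f : X ⟶ Y) :
    Subtr.UnivSSubtrusive f ↔
      ∀ (V : Type u) [CommRing V] [IsDomain V] [ValuationRing V] (g : Spec (CommRingCat.of V) ⟶ Y),
        ∃ (V' : Type u) (_ : CommRing V') (_ : IsDomain V') (_ : ValuationRing V')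
          (a : Spec (CommRingCat.of V') ⟶ X) (b : Spec (CommRingCat.of V') ⟶ Spec (CommRingCat.of V)),
          Surjective b ∧ a ≫ f = b ≫ g := by
  rw [univSSubtrusive_iff_hasValLift.{u} f]
  constructor
  · intro h V _ _ _ g
    obtain ⟨W, i1, i2, φ, hφ, j, v, hv⟩ := h (CommRingCat.of V) g
    exact ⟨W, inferInstance, i1, i2, v, Spec.map φ, surjective_spec_of_isExtVal φ hφ, hv⟩
  · intro h
    refine H18HTop.hasValLift_of_specializes _ fun V _ _ g => ?_
    obtain ⟨V', _, _, _, a, b, hb, hab⟩ := h V g
    haveI := hb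
    let m : Spec (CommRingCat.of V') ⟶ pullback g f := pullback.lift b a hab.symm
    refine ⟨PUnit.unit, m (⊥ : PrimeSpectrum V'), m (closedPoint V'),
      (specializes_closedPoint _).map m.continuous, ?_, ?_⟩
    · show pullback.fst g f (m _) = _
      rw [← Scheme.Hom.comp_apply, pullback.lift_fst]
      obtain ⟨z, hz⟩ := b.surjective (⊥ : PrimeSpectrum V)
      have h' : b (⊥ : PrimeSpectrum V') ⤳ b z :=
        ((PrimeSpectrum.le_iff_specializes (⊥ : PrimeSpectrum V') z).1 bot_le).map b.continuous
      rw [hz] at h'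
      exact PrimeSpectrum.ext (le_bot_iff.1
        ((PrimeSpectrum.le_iff_specializes (show PrimeSpectrum V from b (⊥ : PrimeSpectrum V')) ⊥).2 h'))
    · show pullback.fst g f (m _) = _
      rw [← Scheme.Hom.comp_apply, pullback.lift_fst]
      obtain ⟨z, hz⟩ := b.surjective (closedPoint V)
      have h' : b z ⤳ b (closedPoint V') := (specializes_closedPoint z).map b.continuous
      rw [hz] at h'
      exact PrimeSpectrum.ext (le_antisymm (IsLocalRing.le_maximalIdeal (Ideal.IsPrime.ne_top inferInstance))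
        ((PrimeSpectrum.le_iff_specializes (closedPoint V) (show PrimeSpectrum V from b (closedPoint V'))).2 h'))

/-- The morphism from the spectrum of a residue field is quasi-compact, hence so is the inclusion of a fibre. -/
theorem quasiCompact_fromSpecResidueField (y : Y) : QuasiCompact (Y.fromSpecResidueField y) :=
  ⟨fun _ _ _ => (Set.subsingleton_of_subsingleton (α := PrimeSpectrum (Y.residueField y))).finite.isCompact⟩

/-- A point in the closure of a fibre specialises from a point of the fibre. -/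
theorem exists_specializes_of_mem_closure_fibre (f : X ⟶ Y) (y' : Y) {x : X} (hx : x ∈ closure (f ⁻¹' {y'})) :
    ∃ x', x' ⤳ x ∧ f x' = y' := by
  haveI := quasiCompact_fromSpecResidueField y'
  haveI : QuasiCompact (f.fiberι y') :=
    MorphismProperty.pullback_fst (P := @QuasiCompact) f _ ‹_›
  rw [← f.range_fiberι y'] at hx
  obtain ⟨z, hz⟩ := H17.exists_specializes_of_mem_closure_range (f.fiberι y') hx
  have : f.fiberι y' z ∈ f ⁻¹' {y'} := f.range_fiberι y' ▸ Set.mem_range_self z
  exact ⟨_, hz, this⟩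

/-- Singletons of schemes are pro-constructible. -/
theorem isProConstructible_singleton (y : Y) : ProCons.IsProConstructible ({y} : Set Y) := by
  intro x
  obtain ⟨_, ⟨(U : Y.Opens), hU, rfl⟩, hxU, -⟩ :=
    Y.isBasis_affineOpens.exists_subset_of_mem_open (Set.mem_univ x) isOpen_univ
  replace hU : IsAffineOpen U := hU
  haveI : IsAffine (U : Scheme.{u}) := hU
  refine ⟨(U : Set Y), U.2, hxU, {T | Topology.IsLocallyConstructible T ∧ Subtype.val ⁻¹' {y} ⊆ T},
    fun T hT => hT.1, Set.Subset.antisymm (fun z hz T hT => hT.2 hz) fun z hz => ?_⟩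
  by_contra hzy
  have key : ∃ T : Set (U : Scheme.{u}), Topology.IsLocallyConstructible T ∧ Subtype.val ⁻¹' {y} ⊆ T ∧ z ∉ T := by
    by_cases hy : y ∈ U
    · have hne : (⟨y, hy⟩ : (U : Scheme.{u})) ≠ z := fun h => hzy (by rw [← h]; rfl)
      obtain ⟨W, hW, hW'⟩ := exists_isOpen_xor'_mem hne
      have hbasis := (isBasis_basicOpen (U : Scheme.{u}))
      rcases hW' with ⟨hyW, hzW⟩ | ⟨hzW, hyW⟩
      · obtain ⟨_, ⟨_, ⟨r, rfl⟩, rfl⟩, hyr, hr⟩ := hbasis.exists_subset_of_mem_open hyW hW
        refine ⟨_, (IsCompact.isConstructible ((isAffineOpen_top (U : Scheme.{u})).basicOpen r).isCompact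
          ((U : Scheme.{u}).basicOpen r).2).isLocallyConstructible, fun a ha => ?_, fun h => hzW (hr h)⟩
        obtain rfl : a = (⟨y, hy⟩ : (U : Scheme.{u})) := Subtype.ext ha
        exact hyr
      · obtain ⟨_, ⟨_, ⟨r, rfl⟩, rfl⟩, hzr, hr⟩ := hbasis.exists_subset_of_mem_open hzW hW
        refine ⟨_, (Topology.IsConstructible.compl (IsCompact.isConstructible ((isAffineOpen_top (U : Scheme.{u})).basicOpen r).isCompact
          ((U : Scheme.{u}).basicOpen r).2)).isLocallyConstructible, fun a ha h => ?_, fun h => h hzr⟩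
        obtain rfl : a = (⟨y, hy⟩ : (U : Scheme.{u})) := Subtype.ext ha
        exact hyW (hr h)
    · exact ⟨∅, Topology.IsLocallyConstructible.empty, fun a ha => absurd ((Set.mem_singleton_iff.1 ha) ▸ a.2) hy,
        Set.notMem_empty _⟩
  obtain ⟨T, hT, hsub, hzT⟩ := key
  exact hzT (hz T ⟨hT, hsub⟩)

end Groth.Agent.H18Subtr
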