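import Groth.Agent.H18Subtr.Basic
import Groth.Agent.H18HTop.SpecLift
import Mathlib.AlgebraicGeometry.AffineSpace
import Mathlib.RingTheory.FinitePresentation

/-!
# Affine spaces suffice to test the valuative lifting property
-/

set_option autoImplicit false

universe u

open CategoryTheory Limits AlgebraicGeometry IsLocalRing HTop TensorProduct TopologicalSpace

namespace Groth.Agent.H18Subtr

set_option backward.isDefEq.respectTransparency false

open H18HTop in
/-- Prime pairs over all localisations of finitely generated subalgebras give prime pairs. -/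
theorem exists_prime_pair_of_fg {R V : Type u} [CommRing R] [CommRing V] [Algebra R V] [IsDomain V]
    [IsLocalRing V] {M : Type*} [Finite M]
    (Bs : M → Type u) [∀ m, CommRing (Bs m)] [∀ m, Algebra R (Bs m)]
    (h : ∀ A : Subalgebra R V, A.FG →
      ∃ m, HasPrimePair R (Localization.AtPrime ((maximalIdeal V).comap A.val)) (Bs m)) :
    ∃ m, HasPrimePair R V (Bs m) := by
  classical
  by_contra hcon
  push Not at hcon
  choose A₀ hA₀ hA₀' using fun m => exists_identity_stage (hcon m)
  cases nonempty_fintype M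
  let A : Subalgebra R V := Finset.univ.sup A₀
  have hAfg : A.FG := Finset.sup_induction (p := Subalgebra.FG) Subalgebra.fg_bot
    (fun a ha b hb => ha.sup hb) (fun m _ => hA₀ m)
  let p : Ideal A := (maximalIdeal V).comap A.val
  obtain ⟨m, P, Q, hP, hQ, hPQ, hP0, hQm⟩ := h A hAfg
  obtain ⟨v, j, k, hv, hvj, hjk, hk⟩ := hA₀' m A (Finset.le_sup (Finset.mem_univ m))
  let ψ : A ⊗[R] Bs m →ₐ[R] Localization.AtPrime p ⊗[R] Bs m :=
    Algebra.TensorProduct.map (IsScalarTower.toAlgHom R A (Localization.AtPrime p)) (AlgHom.id R (Bs m))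
  have hψ (a : A) : ψ (a ⊗ₜ 1) = Algebra.TensorProduct.includeLeftRingHom
      (algebraMap A (Localization.AtPrime p) a) := by simp [ψ]
  have hv' : ψ (v ⊗ₜ 1) ∉ P := fun h' => hv <| by
    rw [hψ, ← Ideal.mem_comap, hP0, Ideal.mem_bot] at h'
    exact IsLocalization.injective (Localization.AtPrime p) p.primeCompl_le_nonZeroDivisors
      (h'.trans (map_zero _).symm)
  have hj : ψ j ∈ Q := hPQ ((hP.mem_or_mem (by rw [← map_mul, hvj, map_zero]; exact P.zero_mem)).resolve_left hv')
  have hk' : ψ k ∈ Q := by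
    have := Ideal.mem_map_of_mem ψ.toRingHom hk
    rw [Ideal.map_map] at this
    refine Ideal.map_le_iff_le_comap.2 (fun a ha => ?_) this
    show ψ (a ⊗ₜ 1) ∈ Q
    rw [hψ, ← Ideal.mem_comap, hQm]
    exact (IsLocalization.AtPrime.to_map_mem_maximal_iff (Localization.AtPrime p) p a).2 ha
  have h1 : ψ j + ψ k = 1 := (map_add ψ j k).symm.trans ((congrArg ψ hjk).trans (map_one ψ))
  exact hQ.ne_top ((Ideal.eq_top_iff_one _).2 (h1 ▸ Q.add_mem hj hk'))

variable {X Y : Scheme.{u}}

theorem hasValLift_of_affineSpace (f : X ⟶ Y) [QuasiCompact f]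
    (h : ∀ n : ℕ, 0 < n → Subtr.IsSSubtrusive (pullback.snd f (AffineSpace (ULift.{u} (Fin n)) Y ↘ Y))) :
    HasValLift (PreZeroHypercover.singleton.{u} f) := by
  refine H18HTop.hasValLift_of_specializes _ fun V _ _ g => ?_
  obtain ⟨U, hU, hgU, -⟩ := exists_isAffineOpen_mem_and_subset (x := g (closedPoint V)) (U := ⊤) trivial
  have hr : Set.range g ⊆ Set.range hU.fromSpec := by
    rw [hU.range_fromSpec]; exact H18HTop.range_subset_of_closedPoint_mem g U hgU
  let ρ : Γ(Y, U) ⟶ V := Spec.preimage (IsOpenImmersion.lift hU.fromSpec g hr)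
  have hρ : Spec.map ρ ≫ hU.fromSpec = g := by rw [Spec.map_preimage, IsOpenImmersion.lift_fac]
  letI : Algebra Γ(Y, U) V := ρ.hom.toAlgebra
  obtain ⟨s, hs, hsU⟩ := (isCompact_iff_finite_and_eq_biUnion_affineOpens (U := f ⁻¹ᵁ U)).mp
    (f.isCompact_preimage hU.isCompact)
  haveI := hs.to_subtype
  have hle : ∀ m : s, (m.1 : X.Opens) ≤ f ⁻¹ᵁ U := fun m => by
    rw [hsU]; exact le_iSup₂ (f := fun (i : X.affineOpens) (_ : i ∈ s) => (i : X.Opens)) m.1 m.2
  let Bs : s → Type u := fun m => Γ(X, (m.1 : X.Opens))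
  letI : ∀ m, Algebra Γ(Y, U) (Bs m) := fun m => (f.appLE U _ (hle m)).hom.toAlgebra
  have hq : ∀ m : s, m.1.2.fromSpec ≫ f =
      Spec.map (CommRingCat.ofHom (algebraMap Γ(Y, U) (Bs m))) ≫ hU.fromSpec := fun m =>
    (IsAffineOpen.SpecMap_appLE_fromSpec f hU m.1.2 (hle m)).symm
  have key : ∀ A : Subalgebra Γ(Y, U) V, A.FG →
      ∃ m, H18HTop.HasPrimePair Γ(Y, U) (Localization.AtPrime ((maximalIdeal V).comap A.val)) (Bs m) := by
    intro A hA
    haveI : Algebra.FiniteType Γ(Y, U) A := (Subalgebra.fg_iff_finiteType A).1 hA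
    obtain ⟨n, π, hπ⟩ := Algebra.FiniteType.iff_quotient_mvPolynomial''.1 ‹Algebra.FiniteType Γ(Y, U) A›
    let π' : MvPolynomial (ULift.{u} (Fin (n + 1))) Γ(Y, U) →ₐ[Γ(Y, U)] A :=
      MvPolynomial.aeval fun i => if hi : (i.down : ℕ) < n then π (MvPolynomial.X ⟨i.down, hi⟩) else 0
    have hπ' : Function.Surjective π' := by
      have e : π'.comp (MvPolynomial.rename fun i : Fin n => ULift.up i.castSucc) = π := by
        refine MvPolynomial.algHom_ext fun i => ?_
        simp [π', i.2]
      exact fun a => (hπ a).elim fun b hb => ⟨_, (AlgHom.congr_fun e b).trans hb⟩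
    let L := Localization.AtPrime ((maximalIdeal V).comap A.val)
    let loc : Spec (CommRingCat.of L) ⟶ Spec (CommRingCat.of A) := Spec.map (CommRingCat.ofHom (algebraMap A L))
    let cl : Spec (CommRingCat.of A) ⟶ Spec (CommRingCat.of (MvPolynomial (ULift.{u} (Fin (n + 1))) Γ(Y, U))) :=
      Spec.map (CommRingCat.ofHom π'.toRingHom)
    haveI : IsPreimmersion loc := IsPreimmersion.of_isLocalization ((maximalIdeal V).comap A.val).primeCompl
    haveI : IsClosedImmersion cl := IsClosedImmersion.spec_of_surjective _ hπ'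
    haveI : IsOpenImmersion (AffineSpace.map (ULift.{u} (Fin (n + 1))) hU.fromSpec) :=
      MorphismProperty.of_isPullback (P := @IsOpenImmersion)
        (AffineSpace.isPullback_map (n := ULift.{u} (Fin (n + 1))) hU.fromSpec).flip inferInstance
    let a : Spec (CommRingCat.of L) ⟶ AffineSpace (ULift.{u} (Fin (n + 1))) Y :=
      loc ≫ cl ≫ (AffineSpace.SpecIso (ULift.{u} (Fin (n + 1))) Γ(Y, U)).inv ≫ AffineSpace.map _ hU.fromSpec
    haveI : IsPreimmersion a := inferInstance
    have ha : a ≫ (AffineSpace (ULift.{u} (Fin (n + 1))) Y ↘ Y) =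
        Spec.map (CommRingCat.ofHom (algebraMap Γ(Y, U) L)) ≫ hU.fromSpec := by
      simp only [a, loc, cl, Category.assoc, AffineSpace.map_over]
      rw [reassoc_of% (AffineSpace.SpecIso_inv_over (n := ULift.{u} (Fin (n + 1))) (R := Γ(Y, U))),
        ← Spec.map_comp_assoc, ← Spec.map_comp_assoc]
      congr 2
      ext r
      simp [π', ← IsScalarTower.algebraMap_apply]
    let ov := AffineSpace (ULift.{u} (Fin (n + 1))) Y ↘ Y
    let c := Spec.map (CommRingCat.ofHom (algebraMap Γ(Y, U) L)) ≫ hU.fromSpec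
    let k : pullback c f ⟶ pullback f ov := pullback.lift (pullback.snd c f) (pullback.fst c f ≫ a)
      (by rw [Category.assoc, ha, pullback.condition])
    have hk : IsPullback k (pullback.fst c f) (pullback.snd f ov) a := by
      refine IsPullback.of_right ?_ (pullback.lift_snd _ _ _) (IsPullback.of_hasPullback f ov)
      rw [pullback.lift_fst, ha]
      exact (IsPullback.of_hasPullback c f).flip
    haveI : IsPreimmersion k := MorphismProperty.of_isPullback (P := @IsPreimmersion) hk.flip inferInstance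
    have hsp : ((⊥ : PrimeSpectrum L) : Spec (CommRingCat.of L)) ⤳ closedPoint L := specializes_closedPoint _
    obtain ⟨x, x', hx, hxc, hx'⟩ := h (n + 1) n.succ_pos (hsp.map a.continuous)
    obtain ⟨w, hw, hwc⟩ := Scheme.exists_preimage_of_isPullback hk x (closedPoint L : PrimeSpectrum L) hxc
    obtain ⟨w', hw', hwc'⟩ := Scheme.exists_preimage_of_isPullback hk x' (⊥ : PrimeSpectrum L) hx'
    have hww : w' ⤳ w := k.isEmbedding.isInducing.specializes_iff.1 (hw'.symm ▸ hw.symm ▸ hx)
    have hbU : pullback.snd c f w ∈ f ⁻¹ᵁ U := by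
      show f (pullback.snd c f w) ∈ (U : Set Y)
      rw [← Scheme.Hom.comp_apply, ← pullback.condition, Scheme.Hom.comp_apply, Scheme.Hom.comp_apply,
        ← hU.range_fromSpec]
      exact ⟨_, rfl⟩
    rw [hsU, ← SetLike.mem_coe, TopologicalSpace.Opens.coe_iSup, Set.mem_iUnion] at hbU
    obtain ⟨W, hW⟩ := hbU
    rw [TopologicalSpace.Opens.coe_iSup, Set.mem_iUnion] at hW
    obtain ⟨hWs, hbW⟩ := hW
    refine ⟨⟨W, hWs⟩, H18HTop.hasPrimePair_of_specializes (B := Bs ⟨W, hWs⟩) hU.fromSpec W.2.fromSpec f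
      (hq ⟨W, hWs⟩) hww hwc' hwc ?_⟩
    rw [W.2.range_fromSpec]
    exact hbW
  obtain ⟨m, hm⟩ := exists_prime_pair_of_fg (V := V) Bs key
  obtain ⟨p, q, hpq, hp, hq'⟩ := H18HTop.exists_specializes_of_hasPrimePair hU.fromSpec m.1.2.fromSpec f (hq m) hm
  have e : Spec.map (CommRingCat.ofHom (algebraMap Γ(Y, U) V)) ≫ hU.fromSpec = g := hρ
  let t := (pullback.congrHom e (rfl : f = f))
  refine ⟨PUnit.unit, t.hom p, t.hom q, hpq.map t.hom.continuous, ?_, ?_⟩
  · show pullback.fst g f (t.hom p) = _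
    rw [← Scheme.Hom.comp_apply, show t.hom ≫ pullback.fst g f = pullback.fst _ _ by simp [t]]
    exact hp
  · show pullback.fst g f (t.hom q) = _
    rw [← Scheme.Hom.comp_apply, show t.hom ≫ pullback.fst g f = pullback.fst _ _ by simp [t]]
    exact hq'

end Groth.Agent.H18Subtr
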