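import Groth.Agent.H18Subtr.Basic

/-!
# Chains of specialisations and valuation rings
-/

set_option autoImplicit false

universe u

open CategoryTheory Limits AlgebraicGeometry IsLocalRing HTop

namespace Groth.Agent.H18Subtr

set_option backward.isDefEq.respectTransparency false

variable {Y : Scheme.{u}}

/-- Composition of a valuation ring with a valuation ring of its residue field. -/
theorem valuationRing_comap {V : Type u} [CommRing V] [IsDomain V] [ValuationRing V]
    (A : ValuationSubring (ResidueField V)) : ValuationRing (A.toSubring.comap (residue V)) := by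
  haveI : PreValuationRing (A.toSubring.comap (residue V)) := ⟨by
    rintro ⟨a, ha⟩ ⟨b, hb⟩
    have key : ∀ (a b : V) (hb : residue V b ∈ A) (c : V), a * c = b →
        (∃ c : V, residue V c ∈ A ∧ a * c = b) ∨ (∃ c : V, residue V c ∈ A ∧ b * c = a) := by
      intro a b hb c hc
      by_cases h : residue V c ∈ A
      · exact Or.inl ⟨c, h, hc⟩
      · have hu : IsUnit c := by
          by_contra hc'
          refine h ?_
          rw [(residue_eq_zero_iff c).2 ((mem_maximalIdeal c).2 hc')]
          exact A.zero_mem
        obtain ⟨v, rfl⟩ := hu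
        refine Or.inr ⟨(v⁻¹ : Vˣ), ?_, by rw [← hc, mul_assoc, Units.mul_inv, mul_one]⟩
        have hinv : residue V ((v⁻¹ : Vˣ) : V) = (residue V (v : V))⁻¹ :=
          eq_inv_of_mul_eq_one_left (by rw [← map_mul, Units.inv_mul, map_one])
        rw [hinv]
        exact (A.mem_or_inv_mem _).resolve_left h
    rcases ValuationRing.cond a b with ⟨c, hc | hc⟩
    · rcases key a b hb c hc with ⟨d, hd, he⟩ | ⟨d, hd, he⟩
      · exact ⟨⟨d, hd⟩, Or.inl (Subtype.ext he)⟩
      · exact ⟨⟨d, hd⟩, Or.inr (Subtype.ext he)⟩
    · rcases key b a ha c hc with ⟨d, hd, he⟩ | ⟨d, hd, he⟩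
      · exact ⟨⟨d, hd⟩, Or.inr (Subtype.ext he)⟩
      · exact ⟨⟨d, hd⟩, Or.inl (Subtype.ext he)⟩⟩
  exact { }

/-- A valuation ring point extends along a specialisation of the image of its closed point. -/
theorem exists_extend {V : CommRingCat.{u}} [IsDomain V] [ValuationRing V] (k : Spec V ⟶ Y) {y : Y}
    (hy : k (closedPoint V) ⤳ y) :
    ∃ (V' : CommRingCat.{u}) (_ : IsDomain V') (_ : ValuationRing V') (j : Spec V ⟶ Spec V')
      (k' : Spec V' ⟶ Y), j ≫ k' = k ∧ k' (closedPoint V') = y := by
  let θ : Y.presheaf.stalk y ⟶ V := Y.presheaf.stalkSpecializes hy ≫ Scheme.stalkClosedPointTo k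
  let m : Y.presheaf.stalk y →+* ResidueField V := (residue V).comp θ.hom
  obtain ⟨A, hA, hA'⟩ := exists_factor_valuationRing m
  let S : Subring V := A.toSubring.comap (residue V)
  have hS : ∀ a, θ.hom a ∈ S := hA
  haveI := valuationRing_comap (V := V) A
  let θ' : Y.presheaf.stalk y ⟶ CommRingCat.of S := CommRingCat.ofHom (θ.hom.codRestrict S hS)
  let j : Spec V ⟶ Spec (CommRingCat.of S) := Spec.map (CommRingCat.ofHom S.subtype)
  refine ⟨CommRingCat.of S, inferInstance, inferInstance, j, Spec.map θ' ≫ Y.fromSpecStalk y, ?_, ?_⟩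
  · show Spec.map (CommRingCat.ofHom S.subtype) ≫ _ = k
    rw [← Spec.map_comp_assoc, show θ' ≫ CommRingCat.ofHom S.subtype = θ from rfl]
    show Spec.map (Y.presheaf.stalkSpecializes hy ≫ Scheme.stalkClosedPointTo k) ≫ _ = k
    rw [Spec.map_comp, Category.assoc, Scheme.SpecMap_stalkSpecializes_fromSpecStalk,
      Scheme.Spec_stalkClosedPointTo_fromSpecStalk]
  · haveI : IsLocalHom θ'.hom := by
      refine ⟨fun a ha => ?_⟩
      let e : S →+* A := ((residue V).comp S.subtype).codRestrict A.toSubring fun s => s.2
      have : IsUnit (m.codRestrict A.toSubring hA a) := ha.map e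
      exact hA'.map_nonunit a this
    rw [Scheme.Hom.comp_apply]
    show Y.fromSpecStalk y (Spec.map θ' (closedPoint S)) = y
    rw [show Spec.map θ' (closedPoint S) = closedPoint (Y.presheaf.stalk y) from
      comap_closedPoint (S := S) θ'.hom, Scheme.fromSpecStalk_closedPoint]

/-- Every finite chain of specialisations is the image of a chain in the spectrum of a valuation ring. -/
theorem exists_valuation_chain (n : ℕ) : ∀ (y : Fin (n + 1) → Y), (∀ i j, i ≤ j → y i ⤳ y j) →
    ∃ (V : CommRingCat.{u}) (_ : IsDomain V) (_ : ValuationRing V) (k : Spec V ⟶ Y)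
      (p : Fin (n + 1) → (Spec V : Scheme.{u})),
      (∀ i j, i ≤ j → p i ⤳ p j) ∧ (∀ i, k (p i) = y i) ∧ p (Fin.last n) = closedPoint V := by
  induction n with
  | zero =>
    intro y _
    haveI : IsDomain (Y.residueField (y 0)) := inferInstance
    refine ⟨Y.residueField (y 0), inferInstance, inferInstance, Y.fromSpecResidueField (y 0),
      fun _ => (closedPoint (Y.residueField (y 0)) : PrimeSpectrum _), fun _ _ _ => specializes_rfl, fun i => ?_, rfl⟩
    rw [Fin.fin_one_eq_zero i]
    exact Scheme.fromSpecResidueField_apply (y 0) _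
  | succ n ih =>
    intro y hy
    obtain ⟨V, i1, i2, k, p, hp, hk, hlast⟩ := ih (fun i => y i.castSucc) (fun i j h => hy _ _ (by simpa using h))
    haveI := i1; haveI := i2
    have hc : k (closedPoint V) ⤳ y (Fin.last (n + 1)) := by
      rw [← hlast, hk]
      exact hy _ _ (Fin.le_last _)
    obtain ⟨V', i1', i2', j, k', hj, hk'⟩ := exists_extend k hc
    haveI := i1'; haveI := i2'
    refine ⟨V', i1', i2', k', Fin.snoc (fun i => j (p i)) (closedPoint V' : PrimeSpectrum V'), ?_, ?_,
      Fin.snoc_last (α := fun _ => (Spec V' : Scheme.{u})) _ _⟩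
    · intro a b hab
      induction b using Fin.lastCases with
      | last =>
        rw [Fin.snoc_last]
        exact specializes_closedPoint _
      | cast b =>
        induction a using Fin.lastCases with
        | last => exact absurd hab (not_le.2 (Fin.castSucc_lt_last b))
        | cast a =>
          rw [Fin.snoc_castSucc, Fin.snoc_castSucc]
          exact (hp a b (by simpa using hab)).map j.continuous
    · intro i
      induction i using Fin.lastCases with
      | last => rw [Fin.snoc_last]; exact hk'
      | cast i => rw [Fin.snoc_castSucc, ← Scheme.Hom.comp_apply, hj, hk]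

/-- A surjection from the spectrum of a valuation ring lifts chains. -/
theorem exists_chain_section {V W : Type u} [CommRing V] [CommRing W] [IsDomain W] [ValuationRing W]
    (b : Spec (CommRingCat.of W) ⟶ Spec (CommRingCat.of V)) [Surjective b] {ι : Type*} [Preorder ι]
    (p : ι → (Spec (CommRingCat.of V) : Scheme.{u})) (hp : ∀ i j, i ≤ j → p i ⤳ p j) :
    ∃ q : ι → (Spec (CommRingCat.of W) : Scheme.{u}), (∀ i j, i ≤ j → q i ⤳ q j) ∧ ∀ i, b (q i) = p i := by
  classical
  choose s hs using b.surjective
  refine ⟨fun i => s (p i), fun i j hij => ?_, fun i => hs _⟩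
  rcases PreValuationRing.iff_ideal_total.1 (inferInstance : PreValuationRing W) |>.total
    (PrimeSpectrum.asIdeal (s (p i))) (PrimeSpectrum.asIdeal (s (p j))) with h | h
  · exact (PrimeSpectrum.le_iff_specializes (show PrimeSpectrum W from s (p i)) (s (p j))).1 h
  · have h1 : s (p j) ⤳ s (p i) :=
      (PrimeSpectrum.le_iff_specializes (show PrimeSpectrum W from s (p j)) (s (p i))).1 h
    have h2 := h1.map b.continuous
    rw [hs, hs] at h2
    exact specializes_of_eq (congrArg s (Inseparable.eq ((hp i j hij).antisymm h2)))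

end Groth.Agent.H18Subtr
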