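import Groth.Agent.H18Subtr.Chain
import Groth.Agent.H06QFlat.Topo
import Groth.Agent.H7Lim.ProCons
import Groth.Agent.H28Top.Spectral

/-!
# Locally closed sets and morphisms with the lifting property
-/

set_option autoImplicit false

universe u

open CategoryTheory Limits AlgebraicGeometry IsLocalRing HTop TopologicalSpace Topology

namespace Groth.Agent.H18Subtr

set_option backward.isDefEq.respectTransparency false

variable {X Y : Scheme.{u}}

theorem spectralSpace_of_isAffine (X : Scheme.{u}) [IsAffine X] : SpectralSpace X := {}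

/-- Locally closed retrocompact sets are closed for the constructible topology of affine opens. -/
theorem isClosed_constr_of_locallyClosed {E : Set X} (hE : IsLocallyClosed E) (hr : IsRetrocompact E)
    (V : X.Opens) (hV : IsAffineOpen V) :
    IsClosed[constructibleTopology (V : Scheme.{u})] (V.ι ⁻¹' E) := by
  haveI : IsAffine (V : Scheme.{u}) := hV
  haveI := spectralSpace_of_isAffine (V : Scheme.{u})
  obtain ⟨O, Z, hO, hZ, rfl⟩ := hE
  have hK : IsCompact (V.ι ⁻¹' (O ∩ Z)) := by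
    rw [V.ι.isOpenEmbedding.isInducing.isCompact_iff, Set.image_preimage_eq_inter_range, Scheme.Opens.range_ι]
    exact hr hV.isCompact V.2
  obtain ⟨W, hW, hKW, hWO⟩ : ∃ W : Set (V : Scheme.{u}), (IsOpen W ∧ IsCompact W) ∧
      V.ι ⁻¹' (O ∩ Z) ⊆ W ∧ W ⊆ V.ι ⁻¹' O := by
    have hbasis := (PrespectralSpace.isTopologicalBasis : IsTopologicalBasis { U : Set (V : Scheme.{u}) | IsOpen U ∧ IsCompact U })
    have hcov : ∀ x ∈ V.ι ⁻¹' (O ∩ Z), ∃ U : Set (V : Scheme.{u}), (IsOpen U ∧ IsCompact U) ∧ x ∈ U ∧ U ⊆ V.ι ⁻¹' O :=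
      fun x hx => by
        obtain ⟨U, hU, hxU, hUO⟩ := hbasis.exists_subset_of_mem_open hx.1 (hO.preimage V.ι.continuous)
        exact ⟨U, hU, hxU, hUO⟩
    choose! U hU hxU hUO using hcov
    obtain ⟨t, ht, hsub⟩ := hK.elim_nhds_subcover U fun x hx => (hU x hx).1.mem_nhds (hxU x hx)
    exact ⟨⋃ x ∈ t, U x, ⟨isOpen_biUnion fun x hx => (hU x (ht x hx)).1,
      t.finite_toSet.isCompact_biUnion fun x hx => (hU x (ht x hx)).2⟩, hsub,
      Set.iUnion₂_subset fun x hx => hUO x (ht x hx)⟩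
  have e : V.ι ⁻¹' (O ∩ Z) = W ∩ V.ι ⁻¹' Z :=
    Set.Subset.antisymm (fun x hx => ⟨hKW hx, hx.2⟩) fun x hx => ⟨hWO hx.1, hx.2⟩
  rw [e]
  exact @IsClosed.inter _ _ _ (constructibleTopology (V : Scheme.{u}))
    (H28Top.isClosed_constr_of_compactOpen hW.1 hW.2) (H28Top.isClosed_constr_of_isClosed (hZ.preimage V.ι.continuous))

/-- Points in the closure of a locally closed retrocompact set are specialisations of its points. -/
theorem exists_specializes_of_mem_closure_locallyClosed {E : Set X} (hE : IsLocallyClosed E)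
    (hr : IsRetrocompact E) {x : X} (hx : x ∈ closure E) : ∃ e ∈ E, e ⤳ x := by
  obtain ⟨V, hV, hxV, -⟩ := exists_isAffineOpen_mem_and_subset (x := x) (U := ⊤) trivial
  haveI : IsAffine (V : Scheme.{u}) := hV
  haveI := spectralSpace_of_isAffine (V : Scheme.{u})
  have hx' : (⟨x, hxV⟩ : (V : Scheme.{u})) ∈ closure (V.ι ⁻¹' E) := by
    rw [← V.ι.isOpenEmbedding.isOpenMap.preimage_closure_eq_closure_preimage V.ι.continuous]
    exact hx
  obtain ⟨e, he, hex⟩ := H28Top.exists_specializes_of_mem_closure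
    (isClosed_constr_of_locallyClosed hE hr V hV) hx'
  exact ⟨_, he, hex.map V.ι.continuous⟩

/-- Preimages of locally closed retrocompact sets under quasi-compact morphisms are retrocompact. -/
theorem isRetrocompact_preimage (f : X ⟶ Y) [QuasiCompact f] {E : Set Y} (hE : IsLocallyClosed E)
    (hr : IsRetrocompact E) : IsRetrocompact (f ⁻¹' E) := by
  have haff : ∀ W : X.Opens, IsAffineOpen W → ∀ U : Y.Opens, IsAffineOpen U → W ≤ f ⁻¹ᵁ U →
      IsCompact (f ⁻¹' E ∩ (W : Set X)) := fun W hW U hU hWU => by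
    haveI : IsAffine (W : Scheme.{u}) := hW
    haveI : IsAffine (U : Scheme.{u}) := hU
    haveI := spectralSpace_of_isAffine (W : Scheme.{u})
    let g := f.resLE U W hWU
    have hg : g ≫ U.ι = W.ι ≫ f := f.resLE_comp_ι hWU
    have h1 : IsClosed[constructibleTopology (W : Scheme.{u})] (g ⁻¹' (U.ι ⁻¹' E)) :=
      @IsClosed.preimage _ _ (constructibleTopology (W : Scheme.{u})) (constructibleTopology (U : Scheme.{u})) _
        (H7Lim.continuous_constr_of_affine g) _ (isClosed_constr_of_locallyClosed hE hr U hU)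
    have e : W.ι '' (g ⁻¹' (U.ι ⁻¹' E)) = f ⁻¹' E ∩ (W : Set X) := by
      have e1 : g ⁻¹' (U.ι ⁻¹' E) = W.ι ⁻¹' (f ⁻¹' E) := by
        ext w
        show U.ι (g w) ∈ E ↔ f (W.ι w) ∈ E
        rw [← Scheme.Hom.comp_apply, ← Scheme.Hom.comp_apply, hg]
      rw [e1, Set.image_preimage_eq_inter_range, Scheme.Opens.range_ι]
    exact e ▸ (H28Top.isCompact_of_isClosed_constr h1).image W.ι.continuous
  intro V hV hVo
  have hcov : ∀ x ∈ V, ∃ W : X.Opens, (∃ U : Y.Opens, IsAffineOpen U ∧ W ≤ f ⁻¹ᵁ U) ∧ IsAffineOpen W ∧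
      x ∈ W ∧ (W : Set X) ⊆ V := fun x hx => by
    obtain ⟨U, hU, hxU, -⟩ := exists_isAffineOpen_mem_and_subset (x := f x) (U := ⊤) trivial
    obtain ⟨W, hW, hxW, hWV⟩ := exists_isAffineOpen_mem_and_subset (x := x) (U := f ⁻¹ᵁ U ⊓ ⟨V, hVo⟩) ⟨hxU, hx⟩
    exact ⟨W, ⟨U, hU, fun z hz => (hWV hz).1⟩, hW, hxW, fun z hz => (hWV hz).2⟩
  choose! W hWU hW hxW hWV using hcov
  obtain ⟨t, ht, hsub⟩ := hV.elim_nhds_subcover (fun x => (W x : Set X)) fun x hx => (W x).2.mem_nhds (hxW x hx)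
  have e : f ⁻¹' E ∩ V = ⋃ x ∈ t, f ⁻¹' E ∩ (W x : Set X) := by
    refine Set.Subset.antisymm (fun z hz => ?_) ?_
    · obtain ⟨x, hx, hzW⟩ := Set.mem_iUnion₂.1 (hsub hz.2)
      exact Set.mem_iUnion₂.2 ⟨x, hx, hz.1, hzW⟩
    · exact Set.iUnion₂_subset fun x hx z hz => ⟨hz.1, hWV x (ht x hx) hz.2⟩
  rw [e]
  exact t.finite_toSet.isCompact_biUnion fun x hx => by
    obtain ⟨U, hU, hle⟩ := hWU x (ht x hx)
    exact haff _ (hW x (ht x hx)) U hU hle

/-- Retrocompactness descends along quasi-compact surjective morphisms. -/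
theorem isRetrocompact_of_preimage (f : X ⟶ Y) [QuasiCompact f] [Surjective f] {E : Set Y}
    (hr : IsRetrocompact (f ⁻¹' E)) : IsRetrocompact E := by
  intro U hU hUo
  rw [← Set.image_preimage_eq (E ∩ U) f.surjective]
  exact (hr (QuasiCompact.isCompact_preimage U hUo hU) (hUo.preimage f.continuous)).image f.continuous

theorem isLocallyClosed_of_preimage (f : X ⟶ Y) [QuasiCompact f] (hf : Subtr.UnivSSubtrusive f) {E : Set Y}
    (hl : IsLocallyClosed (f ⁻¹' E)) (hr : IsRetrocompact (f ⁻¹' E)) : IsLocallyClosed E := by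
  obtain ⟨O, Z, hO, hZ, he⟩ := hl
  let A := closure (f ⁻¹' E)
  have hA : f ⁻¹' E = O ∩ A := Set.Subset.antisymm
    (fun x hx => ⟨(he.le hx).1, subset_closure hx⟩)
    (fun x hx => he.ge ⟨hx.1, closure_minimal (he.le.trans Set.inter_subset_right) hZ hx.2⟩)
  have hss : Subtr.IsSSubtrusive f := hf _ _ _ (IsPullback.of_id_snd (f := f))
  have hsurj : Function.Surjective f := fun y => by
    obtain ⟨x, _, -, hx, -⟩ := hss (specializes_rfl : y ⤳ y)
    exact ⟨x, hx⟩
  have hgen : ∀ y ∈ closure E, ∃ η ∈ E, η ⤳ y := fun y hy => by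
    have hy' : y ∈ closure (f '' A) := closure_mono (by
      rw [← Set.image_preimage_eq E hsurj]
      exact Set.image_mono subset_closure) hy
    obtain ⟨z, hz, hzy⟩ := H06QFlat.exists_specializes_of_mem_closure_image f isClosed_closure hy'
    obtain ⟨e, heE, hez⟩ := exists_specializes_of_mem_closure_locallyClosed ⟨O, Z, hO, hZ, he⟩ hr hz
    exact ⟨f e, heE, (hez.map f.continuous).trans hzy⟩
  have hD : closure E \ E = f '' (A \ O) := by
    refine Set.Subset.antisymm ?_ ?_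
    · rintro c ⟨hc, hcE⟩
      obtain ⟨η, hη, hηc⟩ := hgen c hc
      obtain ⟨x, x', hx, hxc, hx'⟩ := hss hηc
      have hxA : x ∈ A := hx.mem_closed isClosed_closure (subset_closure (show f x' ∈ E from hx'.symm ▸ hη))
      exact ⟨x, ⟨hxA, fun hxO => hcE (hxc ▸ hA.ge ⟨hxO, hxA⟩)⟩, hxc⟩
    · rintro _ ⟨x, ⟨hxA, hxO⟩, rfl⟩
      refine ⟨?_, fun h => hxO (hA.le h).1⟩
      exact (closure_mono (Set.image_preimage_subset f E)) (image_closure_subset_closure_image f.continuous ⟨x, hxA, rfl⟩)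
  have hst : ∀ d ∈ closure E \ E, ∀ e, d ⤳ e → e ∈ closure E \ E := fun d hd e hde => by
    refine ⟨hde.mem_closed isClosed_closure hd.1, fun heE => hd.2 ?_⟩
    obtain ⟨η, hη, hηd⟩ := hgen d hd.1
    have hy : ∀ i j : Fin 3, i ≤ j → ![η, d, e] i ⤳ ![η, d, e] j := by
      intro i j hij
      fin_cases i <;> fin_cases j <;>
        first
          | exact specializes_rfl
          | exact hηd
          | exact hde
          | exact hηd.trans hde
          | exact absurd hij (by decide)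
    obtain ⟨V, i1, i2, k, p, hp, hk, -⟩ := exists_valuation_chain 2 ![η, d, e] hy
    haveI := i1; haveI := i2
    obtain ⟨W, _, _, _, a, b, hb, hab⟩ := (univSSubtrusive_iff_exists_lift f).1 hf V k
    haveI := hb
    obtain ⟨q, hq, hqp⟩ := exists_chain_section b p hp
    have hfa : ∀ i, f (a (q i)) = ![η, d, e] i := fun i => by
      rw [← Scheme.Hom.comp_apply, hab, Scheme.Hom.comp_apply, hqp, hk]
    have h0 : a (q 0) ∈ f ⁻¹' E := by show f (a (q 0)) ∈ E; rw [hfa]; exact hη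
    have h2 : a (q 2) ∈ f ⁻¹' E := by show f (a (q 2)) ∈ E; rw [hfa]; exact heE
    have h1 : a (q 1) ∈ f ⁻¹' E := hA.ge ⟨((hq 1 2 (by decide)).map a.continuous).mem_open hO (hA.le h2).1,
      ((hq 0 1 (by decide)).map a.continuous).mem_closed isClosed_closure (hA.le h0).2⟩
    have h1' : f (a (q 1)) ∈ E := h1
    rw [hfa] at h1'
    exact h1'
  have hcl : IsClosed (closure E \ E) := isClosed_of_closure_subset fun y hy => by
    rw [hD] at hy
    obtain ⟨z, hz, hzy⟩ := H06QFlat.exists_specializes_of_mem_closure_image f (isClosed_closure.sdiff hO) hy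
    exact hst _ (hD.ge ⟨z, hz, rfl⟩) y hzy
  refine ⟨(closure E \ E)ᶜ, closure E, hcl.isOpen_compl, isClosed_closure, Set.ext fun y => ⟨fun h => ⟨fun h' => h'.2 h, subset_closure h⟩, fun h => ?_⟩⟩
  by_contra hy
  exact h.1 ⟨h.2, hy⟩

end Groth.Agent.H18Subtr
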